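import Cfsg.Agent.H946.KZ.Rows
import Cfsg.Agent.H563.KG.KE7

/-!
# `E₇(q)`, the classes 18 and 7, only the Zsigmondy primes (helper325)

The companion of `H946.KZ.KZ_E7` (classes 9, 14): `KZ_E7b`, `19 ≤ f`.
-/

set_option autoImplicit false

namespace Cfsg.Agent.H325.KZ7

open Cfsg Cfsg.Agent.OrdDiv Cfsg.Agent.H436 Cfsg.Agent.H902 Cfsg.Agent.H290.ElReg Cfsg.Agent.H290.ElTab
  Cfsg.Agent.H56.Exc Cfsg.Agent.H325.Loc Cfsg.Agent.H915.GN Cfsg.Agent.H264.GN Cfsg.Agent.H264.FKS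
  Cfsg.Agent.H325.Same Cfsg.Agent.H325.IsoExc Cfsg.Agent.H325.IsoFree Cfsg.Agent.H563.KG Cfsg.Agent.H946.KZ

variable {p f c : ℕ} {g : Grp}

/-- **`E_7(q)`, classes 7 and 18.** -/
theorem charp_e7b_z (hp : p.Prime) (hf : 1 ≤ f) (hg : Cond g) (hch : HasChar p g)
    (hc : den g * c = num g) (hdvd : c ∣ num (.e7 (p ^ f))) (hs1 : ZT p f 7 c) (hs2 : ZT p f 18 c) :
    g = .e7 (p ^ f) := by
  obtain ⟨f₁, hf₁, hfl, hK, hY⟩ := kd_all hp hg hch hc
  obtain ⟨i, hi, hei, hfM, h2, h1, h3, hYc⟩ := compPz hp hf hg hch hf₁ hfl hK hY (td_e7 hp hf hdvd)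
    (by norm_num) (by norm_num) (by norm_num) hs1 hs2
  rcases elimP_e7_7_18 hg hch hi hei h2 h1 h3 hYc with ⟨rfl, q, rfl⟩ | ⟨rfl, q, rfl⟩ | ⟨rfl, q, rfl⟩
  · exfalso
    obtain rfl : q = p ^ f₁ := hfl
    exact kill_uz hp hf rfl (by norm_num) (by norm_num) (same_fld (M := 18) (by norm_num) hfM) hc hs1 (by norm_num)
  · exfalso
    obtain rfl : q = p ^ f₁ := hfl
    exact kill_uz hp hf rfl (by norm_num) (by norm_num) (same_fld (M := 18) (by norm_num) hfM) hc hs1 (by norm_num)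
  · obtain rfl : q = p ^ f₁ := hfl
    rw [same_fld (M := 18) (by norm_num) hfM]

/-- helper946's `core` with `n ≤ c f` -/
theorem core_le {n K : ℕ} {fam : List ℕ} {M E : ℕ → ℕ} (tb : OrderTable.{0}) (hcyc : CycFixSolv.{0})
    (hcfsg : ∀ (S : Type) [Group S] [Finite S] [IsSimpleGroup S], IsKnownSimple' S) (hn : n ≤ 248)
    {L : List ℕ} (hb : bnd n K L = true) (hK : 71 ≤ K) {e e' : ℕ} (hee : e ∈ fam) (hee' : e' ∈ fam) (hne : e ≠ e')
    (h2 : ∀ c ∈ fam, 2 ≤ c) (hKf : ∀ c ∈ fam, n ≤ c * f) (hKe : ∀ r, Prim p (e * f) r → K < r ∧ r ∉ L)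
    (hp : p.Prime) (hf : 4 ≤ f) {F : Type} [Field F] [CharP F p]
    {T : Type} [Group T] [Finite T] (hrep : Fth n F T)
    (hbig : ∀ c ∈ fam, ∀ r, Prim p (c * f) r → Big T r (M c) (E c)) (hM : ∀ c ∈ fam, M c ∣ (p ^ f) ^ c - 1)
    (hE : ∀ c ∈ fam, ∀ s, s.Prime → s ∣ E c → s ≤ 7) (hsep : ∀ c ∈ fam, ∃ c' ∈ fam, ¬ c' ∣ c)
    (hT : ∀ c ∈ fam, ∀ r, Prim p (c * f) r → r ∣ Nat.card T)
    {c₀ r₀ : ℕ} (hc₀ : c₀ ∈ fam) (hr₀ : Prim p (c₀ * f) r₀) (hpiso : PIso p r₀ T)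
    {B : Subgroup T} (hoff : OffZ p f fam B)
    (hgood : ∀ t : ℕ, t.Prime → t ≠ p → ∃ c ∈ fam, ∀ w, Prim p (c * f) w → ∀ x : T, orderOf x = w →
      ¬ t ∣ Nat.card ↥(Subgroup.centralizer ({x} : Set T))) :
    ∃ (S : Subgroup B) (_ : S.Normal) (_ : IsSimpleGroup S), ¬ IsMulCommutative S ∧
      (∀ c ∈ fam, S.index ∣ E c * M c) ∧
      (∀ c ∈ fam, ∀ r, Prim p (c * f) r → Big S r (M c) (E c) ∧ ¬ r ∣ S.index ∧ r ∣ Nat.card S) ∧
      ∃ g, IsNamed g S ∧ HasChar p g := by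
  have := Fact.mk hp
  have h2p := hp.two_le
  have hrf := rfam_of hp hf h2 hbig hM hE hsep hT hoff
  obtain ⟨τ, hτ⟩ := hrep.sub B.subtype B.subtype_injective
  have hr₀B : r₀ ∣ Nat.card B := hoff.dvd hc₀ hr₀ (hT c₀ hc₀ r₀ hr₀)
  have hred : Red ↥B (Pr (Fz p f fam M E)) := by
    refine red_of hcyc hτ (fun A hA hAp => pcore_of_piso (hpiso.sub B) hr₀B A hA hAp)
      (pr_fz.2 ⟨c₀, hc₀, hr₀⟩) hr₀.prime hr₀B
      (fun x hx => ((hbig c₀ hc₀ r₀ hr₀).subgroup B).cyc x hx) fun t ht htp htn htB => ?_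
    rw [Fintype.card_fin]
    obtain ⟨c, hc, hct⟩ := hgood t ht htp
    obtain ⟨w, hw⟩ := exists_zs hp hf (h2 c hc)
    have h8 : 8 ≤ c * f := by have := h2 c hc; nlinarith
    have hwlt := Cfsg.Agent.H946.KZ.lt_of_prim h2p (by omega) hw
    refine ⟨w, hoff.dvd hc hw (hT c hc w hw), ?_, Or.inl (by have := hKf c hc; omega)⟩
    intro x hx hxw a hat hxa
    have hxw' : orderOf (x : T) = w := by
      rw [Subgroup.orderOf_coe]
      exact (Nat.prime_dvd_prime_iff_eq hx hw.prime).1 hxw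
    by_contra ha1
    have := Fact.mk ht
    have h4 : orderOf (a : T) = t := by
      rw [Subgroup.orderOf_coe]
      exact orderOf_eq_prime hat ha1
    have h5 : (a : T) ∈ Subgroup.centralizer ({(x : T)} : Set T) :=
      Subgroup.mem_centralizer_singleton_iff.2 (congrArg Subtype.val hxa.symm)
    have h6 : orderOf (a : T) ∣ Nat.card ↥(Subgroup.centralizer ({(x : T)} : Set T)) := by
      have h7 := orderOf_dvd_natCard (⟨a, h5⟩ : ↥(Subgroup.centralizer ({(x : T)} : Set T)))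
      rwa [← Subgroup.orderOf_coe] at h7
    rw [h4] at h6
    exact hct w hw x hxw' h6
  obtain ⟨S, hSn, hSs, hSna, hS⟩ :=
    hrf.exists_full hcyc hred (r₁ := r₀) (m₁ := M c₀) (e₁ := E c₀) ⟨c₀, hc₀, hr₀, rfl, rfl⟩
  have hall : ∀ c ∈ fam, ∀ r, Prim p (c * f) r →
      Big S r (M c) (E c) ∧ r ∣ Nat.card S ∧ ¬ r ∣ S.index ∧ S.index ∣ E c * M c :=
    fun c hc r h => hS r (M c) (E c) ⟨c, hc, h, rfl, rfl⟩
  have hSs' : IsSimpleGroup S := hSs
  refine ⟨S, hSn, hSs, hSna, fun c hc => ?_, fun c hc r h => ⟨(hall c hc r h).1, (hall c hc r h).2.2.1,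
    (hall c hc r h).2.1⟩, ?_⟩
  · obtain ⟨r, hr⟩ := exists_zs hp hf (h2 c hc)
    exact (hall c hc r hr).2.2.2
  · obtain ⟨r, hr⟩ := exists_zs hp hf (h2 e hee)
    obtain ⟨r', hr'⟩ := exists_zs hp hf (h2 e' hee')
    refine exists_name tb hn hb hK hp hf hSna (hcfsg S)
      ((hrep.sub B.subtype B.subtype_injective).sub S.subtype S.subtype_injective) (h2 e hee) (h2 e' hee') hne hr hr'
      (hKe r hr) (hall e hee r hr).2.1 (hall e' hee' r' hr').2.1 ?_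
    rintro x (h | h)
    · exact (hall e hee r hr).1.cyc x h
    · exact (hall e' hee' r' hr').1.cyc x h

variable {F : Type} [Field F] [Fintype F] [CharP F p]

/-- **`E₇(q)`, the classes 18 and 7.** -/
theorem KZ_E7b (tb : OrderTable.{0}) (hcyc : CycFixSolv.{0}) (hcf : CF) (hp : p.Prime) (hf : 19 ≤ f)
    (hq : Fintype.card F = p ^ f) (B : Subgroup ↥(Lie.chevE7.group F)) (hoff : OffZ p f [18, 7] B) : B = ⊤ := by
  have := Fact.mk hp
  have h2p := hp.two_le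
  have hfin : Finite ↥(Lie.chevE7.group F) := inferInstance
  have hT := named_e7 (F := F) tb
  rw [hq] at hT
  have hq2 : 2 ≤ p ^ f := hp.two_le.trans (Nat.le_self_pow (by omega) p)
  have hq1 : 1 ≤ p ^ f := by omega
  have hmem : ∀ c ∈ [18, 7], c = 18 ∨ c = 7 := by decide
  have hmem' : ∀ c ∈ [18, 7], c = 7 ∨ c = 9 ∨ c = 14 ∨ c = 18 := by decide
  have hcl : ∀ c ∈ [18, 7], Cls c := by
    intro c hc
    have := hmem c hc
    unfold Cls
    omega
  have hbase : ∀ {c r : ℕ}, Prim p (c * f) r → Prim (p ^ f) c r := fun h => prim_base (by omega) h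
  have hdvd : ∀ c ∈ [18, 7], ∀ r, Prim p (c * f) r → r ∣ Nat.card ↥(Lie.chevE7.group F) := by
    intro c hc r hr
    refine dvd_card_of hT hr.prime (den_pos hT.cond) (lt_of_le_of_lt (Nat.gcd_le_left _ (by norm_num)) ?_)
      ((dvd_Ph (hcl c hc) hq1 (hbase hr)).trans (ph_dvd_num (hmem' c hc) hq1))
    rcases hmem c hc with rfl | rfl
    · have h8 := Cfsg.Agent.H946.KZ.lt_of_prim h2p (by omega) hr
      omega
    · have h8 := Cfsg.Agent.H946.KZ.lt_of_prim h2p (by omega) hr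
      omega
  obtain ⟨r₀, hr₀⟩ := exists_zs (c := 18) hp (by omega : 4 ≤ f) (by norm_num)
  have hpiso : PIso p r₀ ↥(Lie.chevE7.group F) := piso_E7_18 (F := F) (by rw [hq]; exact hbase hr₀)
  have hd1 : Nat.gcd 2 (p ^ f - 1) ∣ p ^ f - 1 := Nat.gcd_dvd_right _ _
  have hd2 : Nat.gcd 2 (p ^ f - 1) ∣ p ^ f + 1 := by
    have h3 : p ^ f + 1 = (p ^ f - 1) + 2 := by omega
    rw [h3]
    exact dvd_add hd1 (Nat.gcd_dvd_left _ _)
  have hN7 : (p ^ f - 1) * Ph 7 (p ^ f) / Nat.gcd 2 (p ^ f - 1) ∣ (p ^ f) ^ 7 - 1 :=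
    (Nat.div_dvd_of_dvd (hd1.mul_right _)).trans (m7_dvd (c := 7) (by norm_num) hq1)
  have hN18 : (p ^ f + 1) * Ph 18 (p ^ f) / Nat.gcd 2 (p ^ f - 1) ∣ (p ^ f) ^ 18 - 1 :=
    (Nat.div_dvd_of_dvd (hd2.mul_right _)).trans (m7_dvd (c := 18) (by norm_num) hq1)
  obtain ⟨S, hSn, hSs, hSna, hidx, hbS, g, hg, hch⟩ := core_le (n := 133) (K := 265) tb hcyc hcf (by norm_num) bnd_133
    (by norm_num) (fam := [18, 7]) (e := 18) (e' := 7) (by decide) (by decide) (by norm_num)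
    (by decide) (fun c hc => by rcases hmem c hc with rfl | rfl <;> omega)
    (fun r hr => by
      have := Cfsg.Agent.H946.KZ.lt_of_prim h2p (by omega) hr
      have h7 : 18 ∣ r - 1 := (Dvd.intro _ rfl).trans (mod_of_prim h2p (by omega) hr)
      refine ⟨by omega, fun hm => ?_⟩
      simp only [List.mem_cons, List.not_mem_nil, or_false] at hm
      omega) hp (by omega) (F := F) fth_E7
    (M := M7 (p ^ f)) (E := E7) (fun c hc r hr => big7 (hmem' c hc) hq (hbase hr))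
    (fun c hc => m7_dvd (hmem' c hc) hq1)
    (fun c hc s hs hd => le_seven hs (n := E7 c) (by unfold E7; split <;> omega) hd)
    (by decide) hdvd (c₀ := 18) (by decide) hr₀ hpiso hoff (fun t ht htp => by
      by_cases h7 : Prim (p ^ f) 7 t
      · exact ⟨18, by decide, fun w hw x hx hd => not_dvd_of_prim h7 hN18 (by norm_num)
          (hd.trans (ord18 hq w (hbase hw) x hx))⟩
      by_cases h18 : Prim (p ^ f) 18 t
      · exact ⟨7, by decide, fun w hw x hx hd => not_dvd_of_prim h18 hN7 (by norm_num)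
          (hd.trans (ord7 hq w (hbase hw) x hx))⟩
      by_cases h : t ∣ (p ^ f - 1) * Ph 7 (p ^ f) / Nat.gcd 2 (p ^ f - 1)
      · refine ⟨18, by decide, fun w hw x hx hd => ?_⟩
        exact no_both hq1 ht (by
            rintro rfl
            rw [← Nat.not_even_iff_odd, Nat.even_pow]
            rintro ⟨h1, -⟩
            exact htp ((Nat.prime_dvd_prime_iff_eq Nat.prime_two hp).1 h1.two_dvd))
          (fun ho => ph_odd hq1 ho (by omega)) (fun ho => ph_odd hq1 ho (by omega))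
          (sub_of_seven hq1 ht h7) (add_of_eighteen hq1 ht h18) h (hd.trans (ord18 hq w (hbase hw) x hx))
      · exact ⟨7, by decide, fun w hw x hx hd => h (hd.trans (ord7 hq w (hbase hw) x hx))⟩)
  have hdS : Nat.card S ∣ num (.e7 (p ^ f)) := IsNamed.card_dvd hT S
  obtain rfl := charp_e7b_z hp (by omega) hg.cond hch hg.eq hdS
    (fun s hs => (hbS 7 (by decide) s (by rwa [mul_comm])).2.2)
    (fun s hs => (hbS 18 (by decide) s (by rwa [mul_comm])).2.2)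
  exact eq_top_of_name hT hg

end Cfsg.Agent.H325.KZ7
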